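import Mathlib
import Groth.Agent.FlatDim.Trdeg
import Groth.Agent.DimFormulaLib.Irreducible
import Groth.Agent.NearGen.Dim
import Groth.Agent.S10830

/-!
Dimension of schemes of finite type over a field with fibres of constant dimension.
-/

set_option autoImplicit false

universe u

open CategoryTheory CategoryTheory.Limits AlgebraicGeometry TopologicalSpace

namespace Groth.Agent.DimFibreLib

open DimFormulaLib

variable {k : Type u} [Field k]

/-- The dimension of an irreducible scheme over a field is the transcendence degree. -/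
theorem exists_dim_eq_trdeg {T : Scheme.{u}} (q : T ⟶ Spec (CommRingCat.of k))
    [LocallyOfFiniteType q] [IrreducibleSpace T] :
    ∃ n : ℕ, resTrdegAt q (genericPoint T) = n ∧ topologicalKrullDim T = n := by
  have hs : Subsingleton ↥(Spec (CommRingCat.of k)) :=
    inferInstanceAs (Subsingleton (PrimeSpectrum k))
  haveI : IrreducibleSpace ↥(Spec (CommRingCat.of k)) :=
    { isPreirreducible_univ := (Set.subsingleton_univ).isPreirreducible
      toNonempty := ⟨q (genericPoint T)⟩ }
  have hd : DenseRange q := Function.Surjective.denseRange fun y ↦ ⟨genericPoint T, hs.elim _ _⟩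
  obtain ⟨n, hn, hdim, -⟩ := genericFibre_dim q hd
  refine ⟨n, hn, ?_⟩
  rw [← hdim, (q.fiberHomeo _).isHomeomorph.topologicalKrullDim_eq]
  symm
  have e : (q.base ⁻¹' {genericPoint ↥(Spec (CommRingCat.of k))} : Set T) = Set.univ :=
    Set.eq_univ_of_forall fun x ↦ hs.elim _ _
  exact ((Homeomorph.setCongr e).trans (Homeomorph.Set.univ T)).isHomeomorph.topologicalKrullDim_eq

variable {X Y : Scheme.{u}} (qX : X ⟶ Spec (CommRingCat.of k)) (qY : Y ⟶ Spec (CommRingCat.of k))
  [LocallyOfFiniteType qX] [LocallyOfFiniteType qY] [QuasiCompact qX] (f : X ⟶ Y) (hf : f ≫ qY = qX)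

include hf in
/-- Dimensions attached to an irreducible closed subset of the source. -/
theorem exists_data (Z : Set X) (hZc : IsClosed Z) (hZi : IsIrreducible Z) :
    ∃ n m : ℕ, topologicalKrullDim ↥(closure (f '' Z)) = m ∧
      topologicalKrullDim ↥Z = ((m + n : ℕ) : WithBot ℕ∞) ∧
      (∀ y ∈ f '' Z, (n : WithBot ℕ∞) ≤ topologicalKrullDim ↥(Z ∩ f ⁻¹' {y})) ∧
      ∃ V : Y.Opens, ((V : Set Y) ∩ closure (f '' Z)).Nonempty ∧
        ∀ y ∈ V, y ∈ closure (f '' Z) →
          topologicalKrullDim ↥(Z ∩ f ⁻¹' {y}) = (n : WithBot ℕ∞) := by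
  haveI : IsLocallyNoetherian X := LocallyOfFiniteType.isLocallyNoetherian qX
  haveI : CompactSpace X := QuasiCompact.compactSpace_of_compactSpace qX
  haveI : IsNoetherian X := {}
  haveI : LocallyOfFiniteType f := by
    have : LocallyOfFiniteType (f ≫ qY) := by rw [hf]; infer_instance
    exact locallyOfFiniteType_of_comp f qY
  let I := Scheme.IdealSheafData.vanishingIdeal (⟨Z, hZc⟩ : Closeds X)
  let i := I.subschemeι
  have hri : Set.range i = Z := by
    show Set.range I.subschemeι = Z
    rw [Scheme.IdealSheafData.range_subschemeι, Scheme.IdealSheafData.coe_support_vanishingIdeal]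
    rfl
  let eZ : I.subscheme ≃ₜ Z := i.isEmbedding.toHomeomorph.trans (Homeomorph.setCongr hri)
  haveI : IrreducibleSpace I.subscheme := by
    haveI : IrreducibleSpace Z := isIrreducible_iff_irreducibleSpace.mp hZi
    exact eZ.symm.surjective.irreducibleSpace eZ.symm.continuous
  let h := i ≫ f
  let g := h.toImage
  let ι := h.imageι
  have hgι : g ≫ ι = h := h.toImage_imageι
  haveI : QuasiCompact h := inferInstance
  have hd : DenseRange g := IsDominant.denseRange (f := g)
  haveI : IrreducibleSpace h.image := by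
    refine @IrreducibleSpace.mk _ _ (@PreirreducibleSpace.mk _ _ ?_) ⟨g (genericPoint _)⟩
    have := ((IrreducibleSpace.isIrreducible_univ I.subscheme).image g g.continuous.continuousOn).closure
    rw [Set.image_univ, hd.closure_range] at this
    exact this.2
  haveI : LocallyOfFiniteType h := inferInstance
  haveI : LocallyOfFiniteType g := by
    have : LocallyOfFiniteType (g ≫ ι) := by rw [hgι]; infer_instance
    exact locallyOfFiniteType_of_comp g ι
  have hrι : Set.range ι = closure (f '' Z) := by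
    have h1 : Set.range ι = h.ker.support := Scheme.IdealSheafData.range_subschemeι _
    rw [h1, Scheme.Hom.support_ker]
    show closure (Set.range (f.base ∘ i.base)) = _
    rw [Set.range_comp]
    exact congrArg (fun S ↦ closure (f '' S)) hri
  have hgι' : ∀ z, ι (g z) = f (i z) := fun z ↦ by
    rw [← Scheme.Hom.comp_apply, hgι]; rfl
  have hfib : ∀ w : h.image,
      topologicalKrullDim ↥(g.fiber w) = topologicalKrullDim ↥(Z ∩ f ⁻¹' {ι w}) := by
    intro w
    rw [(g.fiberHomeo w).isHomeomorph.topologicalKrullDim_eq]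
    have hemb : Topology.IsEmbedding (fun z : (g.base ⁻¹' {w} : Set I.subscheme) ↦ i z.1) :=
      i.isEmbedding.comp Topology.IsEmbedding.subtypeVal
    have hr : Set.range (fun z : (g.base ⁻¹' {w} : Set I.subscheme) ↦ i z.1) =
        Z ∩ f ⁻¹' {ι w} := by
      ext x
      constructor
      · rintro ⟨⟨z, hz⟩, rfl⟩
        refine ⟨hri.le ⟨z, rfl⟩, ?_⟩
        show f (i z) = ι w
        rw [← hgι' z]
        exact congrArg ι hz
      · rintro ⟨hxZ, hx⟩
        obtain ⟨z, rfl⟩ := hri.ge hxZ
        refine ⟨⟨z, ι.isEmbedding.injective ?_⟩, rfl⟩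
        exact (hgι' z).trans hx
    rw [← hr]
    exact (hemb.toHomeomorph).isHomeomorph.topologicalKrullDim_eq
  obtain ⟨n, hn, hgen, hlow⟩ := genericFibre_dim g hd
  obtain ⟨m, hm, hmdim⟩ := exists_dim_eq_trdeg (ι ≫ qY)
  obtain ⟨t, ht, htdim⟩ := exists_dim_eq_trdeg (g ≫ ι ≫ qY)
  have htmn : t = m + n := by
    have h1 := FlatDim.resTrdegAt_comp g (ι ≫ qY) (genericPoint I.subscheme)
    rw [ht, image_genericPoint g hd, hm, hn] at h1
    exact_mod_cast h1
  refine ⟨n, m, ?_, ?_, ?_, ?_⟩
  · rw [← hmdim, ← hrι]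
    exact (ι.isEmbedding.toHomeomorph).isHomeomorph.topologicalKrullDim_eq.symm
  · rw [← htmn, ← htdim]
    exact eZ.isHomeomorph.topologicalKrullDim_eq.symm
  · rintro y ⟨x, hx, rfl⟩
    obtain ⟨z, rfl⟩ := hri.ge hx
    rw [← hgι' z, ← hfib]
    refine (hlow z).trans ?_
    rw [DimFormulaLib.topologicalKrullDim_eq_iSup_localDim]
    exact le_iSup (fun a ↦ FlatMor.localDim ↥(g.fiber (g z)) a) (g.asFiber z)
  · obtain ⟨V, hV, hVdim⟩ := NearGen.exists_topologicalKrullDim_eq g
    obtain ⟨O, hO, hOV⟩ := ι.isEmbedding.isInducing.isOpen_iff.mp V.isOpen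
    refine ⟨⟨O, hO⟩, ⟨ι (genericPoint h.image), ?_, hrι.le ⟨_, rfl⟩⟩, fun y hy hyc ↦ ?_⟩
    · have : genericPoint h.image ∈ ι ⁻¹' O := by rw [hOV]; exact hV
      exact this
    · obtain ⟨w, rfl⟩ := hrι.ge hyc
      rw [← hfib, hVdim w (by have : w ∈ ι ⁻¹' O := hy; rw [hOV] at this; exact this), hgen]

include hf in
/-- The closed points of the source lie over closed points. -/
theorem isClosed_image_point {x : X} (hx : IsClosed ({x} : Set X)) :
    IsClosed ({f x} : Set Y) := by
  haveI : JacobsonSpace Y := LocallyOfFiniteType.jacobsonSpace qY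
  haveI : LocallyOfFiniteType f := by
    have : LocallyOfFiniteType (f ≫ qY) := by rw [hf]; infer_instance
    exact locallyOfFiniteType_of_comp f qY
  exact f.closePoints_subset_preimage_closedPoints hx

/-- A closed subset of an irreducible finite-dimensional space of at least its dimension is all. -/
theorem eq_of_dim_le {T : Type u} [TopologicalSpace T] {F Z : Set T} (hF : IsIrreducible F)
    {d : ℕ} (hd : topologicalKrullDim ↥F = d) (hZ : IsClosed Z)
    (h : (d : WithBot ℕ∞) ≤ topologicalKrullDim ↥(Z ∩ F)) : F ⊆ Z := by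
  haveI : IrreducibleSpace F := isIrreducible_iff_irreducibleSpace.mp hF
  by_contra hne
  let S : Set F := Subtype.val ⁻¹' Z
  have hS : S ≠ Set.univ := fun e ↦ hne fun x hx ↦ by
    have : (⟨x, hx⟩ : F) ∈ S := e ▸ trivial
    exact this
  have h1 := S10830.result F (by rw [hd]; exact (WithBot.coe_lt_coe.mpr (ENat.natCast_lt_top d)).ne)
    S (hZ.preimage continuous_subtype_val) hS
  have h2 : topologicalKrullDim ↥S = topologicalKrullDim ↥(Z ∩ F) := by
    have hemb : Topology.IsEmbedding (fun z : S ↦ (z.1 : T)) :=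
      Topology.IsEmbedding.subtypeVal.comp Topology.IsEmbedding.subtypeVal
    have hr : Set.range (fun z : S ↦ (z.1 : T)) = Z ∩ F := by
      ext x
      exact ⟨fun ⟨z, hz⟩ ↦ hz ▸ ⟨z.2, z.1.2⟩, fun hx ↦ ⟨⟨⟨x, hx.2⟩, hx.1⟩, rfl⟩⟩
    rw [← hr]
    exact (hemb.toHomeomorph).isHomeomorph.topologicalKrullDim_eq
  rw [h2, hd] at h1
  exact (lt_irrefl _ (h1.trans_le h))

variable [QuasiCompact qY] [IrreducibleSpace Y] (d : ℕ)
  (hirr : ∀ y : Y, IsClosed ({y} : Set Y) → IsIrreducible (f.base ⁻¹' {y}))
  (hdim : ∀ y : Y, IsClosed ({y} : Set Y) → topologicalKrullDim ↥(f.base ⁻¹' {y}) = d)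

include hf hirr hdim in
/-- A component dominating with relative dimension `d`. -/
theorem exists_component : ∃ Z ∈ irreducibleComponents X, closure (f '' Z) = Set.univ ∧
    topologicalKrullDim ↥Z = (d : WithBot ℕ∞) + topologicalKrullDim Y ∧
    ∀ y ∈ f '' Z, IsClosed ({y} : Set Y) → f.base ⁻¹' {y} ⊆ Z := by
  haveI : IsLocallyNoetherian X := LocallyOfFiniteType.isLocallyNoetherian qX
  haveI : CompactSpace X := QuasiCompact.compactSpace_of_compactSpace qX
  haveI : IsNoetherian X := {}
  haveI : JacobsonSpace Y := LocallyOfFiniteType.jacobsonSpace qY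
  have hfin := TopologicalSpace.NoetherianSpace.finite_irreducibleComponents (α := X)
  haveI : Finite (irreducibleComponents X) := hfin.to_subtype
  choose n m hm hmn hlow V hV hVdim using fun Z : irreducibleComponents X ↦
    exists_data qX qY f hf Z.1 (isClosed_of_mem_irreducibleComponents _ Z.2) Z.2.1
  -- an open set of `Y` seeing only the dominant components, with the expected fibres
  let good : irreducibleComponents X → Set Y := fun Z ↦
    if closure (f '' Z.1) = Set.univ then V Z else (closure (f '' Z.1))ᶜ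
  have hgood : ∀ Z, genericPoint Y ∈ good Z ∧ IsOpen (good Z) := by
    intro Z
    by_cases hdom : closure (f '' Z.1) = Set.univ
    · simp only [good, if_pos hdom]
      obtain ⟨y, hy, -⟩ := hV Z
      exact ⟨(genericPoint_specializes y).mem_open (V Z).isOpen hy, (V Z).isOpen⟩
    · simp only [good, if_neg hdom]
      refine ⟨fun h ↦ hdom (Set.eq_univ_of_univ_subset ?_), isClosed_closure.isOpen_compl⟩
      rw [← (genericPoint_spec Y).def]
      exact closure_minimal (Set.singleton_subset_iff.mpr h) isClosed_closure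
  obtain ⟨y, hy, hyc⟩ : ((⋂ Z, good Z) ∩ closedPoints Y).Nonempty :=
    nonempty_inter_closedPoints ⟨genericPoint Y, Set.mem_iInter.mpr fun Z ↦ (hgood Z).1⟩
      (isOpen_iInter_of_finite fun Z ↦ (hgood Z).2).isLocallyClosed
  rw [mem_closedPoints_iff] at hyc
  obtain ⟨η, hη⟩ := QuasiSober.sober (hirr y hyc) (hyc.preimage f.continuous)
  obtain ⟨Z, hZ, hηZ⟩ : ∃ Z ∈ irreducibleComponents X, η ∈ Z :=
    ⟨irreducibleComponent η, irreducibleComponent_mem_irreducibleComponents η, mem_irreducibleComponent⟩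
  have hsub : f.base ⁻¹' {y} ⊆ Z := by
    rw [← hη.def]
    exact closure_minimal (Set.singleton_subset_iff.mpr hηZ) (isClosed_of_mem_irreducibleComponents Z hZ)
  have hyim : y ∈ f '' Z := ⟨η, hηZ, hη.mem⟩
  have hygood := Set.mem_iInter.mp hy ⟨Z, hZ⟩
  have hdom : closure (f '' Z) = Set.univ := by
    by_contra hnd
    simp only [good, if_neg hnd] at hygood
    exact hygood (subset_closure hyim)
  simp only [good, if_pos hdom] at hygood
  have hnd : n ⟨Z, hZ⟩ = d := by
    have h1 := hVdim ⟨Z, hZ⟩ y hygood (hdom ▸ trivial)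
    rw [Set.inter_eq_right.mpr hsub] at h1
    have := (hdim y hyc).symm.trans h1
    exact_mod_cast this.symm
  refine ⟨Z, hZ, hdom, ?_, fun y' hy' hy'c ↦ ?_⟩
  · have h1 := hm ⟨Z, hZ⟩
    rw [hdom, (Homeomorph.Set.univ Y).isHomeomorph.topologicalKrullDim_eq] at h1
    rw [hmn ⟨Z, hZ⟩, h1, ← hnd]
    push_cast
    rw [add_comm]
  · refine eq_of_dim_le (hirr y' hy'c) (hdim y' hy'c)
      (isClosed_of_mem_irreducibleComponents Z hZ) ?_
    have := hlow ⟨Z, hZ⟩ y' hy'
    rwa [hnd] at this

end Groth.Agent.DimFibreLib
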